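import Groth.Prelude.Def_EGA4Misc
import Mathlib.AlgebraicGeometry.Morphisms.FlatDescent
import Mathlib.AlgebraicGeometry.Morphisms.Preimmersion

/-!
# Radicial at a point via the fibre
-/

universe u

open CategoryTheory CategoryTheory.Limits AlgebraicGeometry MorphismProperty

namespace Groth.Agent.RadPtLib

theorem bijective_residueFieldMap {X Y : Scheme.{u}} (f : X ⟶ Y) [IsPreimmersion f] (x : X) :
    Function.Bijective (f.residueFieldMap x).hom := by
  refine ⟨(f.residueFieldMap x).hom.injective, fun b => ?_⟩
  obtain ⟨b, rfl⟩ := X.residue_surjective x b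
  obtain ⟨a, rfl⟩ := f.stalkMap_surjective x b
  exact ⟨Y.residue (f x) a, ConcreteCategory.congr_hom (Scheme.residue_residueFieldMap f x) a⟩

theorem isPurelyInseparable_bijective {F E : Type*} [Field F] [Field E] (f : F →+* E)
    (hf : Function.Surjective f) : f.IsPurelyInseparable := by
  algebraize [f]
  exact (isPurelyInseparable_iff_pow_mem F (ringExpChar F)).2 fun x => ⟨0, by
    rw [pow_zero, pow_one]; exact hf x⟩

theorem isPurelyInseparable_comp_iff_left {F E K : Type*} [Field F] [Field E] [Field K] (f : F →+* E)
    (e : E →+* K) (he : Function.Bijective e) :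
    (e.comp f).IsPurelyInseparable ↔ f.IsPurelyInseparable := by
  refine ⟨fun h => ?_, fun h => h.comp (isPurelyInseparable_bijective e he.2)⟩
  have h2 := (RingEquiv.ofBijective e he).symm.toRingHom
  have := h.comp (isPurelyInseparable_bijective (RingEquiv.ofBijective e he).symm.toRingHom
    (RingEquiv.ofBijective e he).symm.surjective)
  convert this using 1
  ext a
  exact ((RingEquiv.ofBijective e he).symm_apply_apply (f a)).symm

theorem isPurelyInseparable_comp_iff_right {F E K : Type*} [Field F] [Field E] [Field K] (e : F →+* E)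
    (g : E →+* K) (he : Function.Bijective e) :
    (g.comp e).IsPurelyInseparable ↔ g.IsPurelyInseparable := by
  refine ⟨fun h => ?_, fun h => (isPurelyInseparable_bijective e he.2).comp h⟩
  have := (isPurelyInseparable_bijective (RingEquiv.ofBijective e he).symm.toRingHom
    (RingEquiv.ofBijective e he).symm.surjective).comp h
  convert this using 1
  ext a
  exact congrArg g ((RingEquiv.ofBijective e he).apply_symm_apply a).symm

theorem purelyInseparable_fiber_iff {X Y : Scheme.{u}} (f : X ⟶ Y) (y : Y) (z : f.fiber y) :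
    ((f.fiberToSpecResidueField y).residueFieldMap z).hom.IsPurelyInseparable ↔
      (f.residueFieldMap (f.fiberι y z)).hom.IsPurelyInseparable := by
  rw [← isPurelyInseparable_comp_iff_left (f.residueFieldMap (f.fiberι y z)).hom
    ((f.fiberι y).residueFieldMap z).hom (bijective_residueFieldMap _ _),
    ← isPurelyInseparable_comp_iff_right
      ((Y.fromSpecResidueField y).residueFieldMap (f.fiberToSpecResidueField y z)).hom _
      (bijective_residueFieldMap _ _), ← CommRingCat.hom_comp, ← CommRingCat.hom_comp,
    ← Scheme.residueFieldMap_comp, ← Scheme.residueFieldMap_comp,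
    Scheme.Hom.residueFieldMap_congr (f.fiber_fac y) z]
  exact (isPurelyInseparable_comp_iff_right _ _
    (ConcreteCategory.bijective_of_isIso (C := CommRingCat) _)).symm

/-- Radicial at `y` means that the fibre over `y` is radicial over the residue field. -/
theorem isRadicialAt_iff {X Y : Scheme.{u}} (f : X ⟶ Y) (y : Y) :
    RadPt.IsRadicialAt f y ↔ UniversallyInjective (f.fiberToSpecResidueField y) := by
  refine Iff.trans ?_ ((tfae_universallyInjective (f.fiberToSpecResidueField y)).out 0 2).symm
  have hmem : ∀ z, f (f.fiberι y z) = y := fun z => by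
    have : f.fiberι y z ∈ Set.range (f.fiberι y) := ⟨z, rfl⟩
    rwa [f.range_fiberι] at this
  have hsur : ∀ x, f x = y → ∃ z, f.fiberι y z = x := fun x hx => by
    have : x ∈ f ⁻¹' {y} := hx
    rwa [← f.range_fiberι] at this
  constructor
  · rintro ⟨h1, h2⟩
    refine ⟨fun z z' _ => (f.fiberι y).isEmbedding.injective (h1 _ _ (hmem z) (hmem z')), fun z => ?_⟩
    exact (purelyInseparable_fiber_iff f y z).2 (h2 _ (hmem z))
  · rintro ⟨h1, h2⟩
    refine ⟨fun x x' hx hx' => ?_, fun x hx => ?_⟩
    · obtain ⟨z, rfl⟩ := hsur x hx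
      obtain ⟨z', rfl⟩ := hsur x' hx'
      exact congrArg _ (h1 (Subsingleton.elim (α := PrimeSpectrum _) _ _))
    · obtain ⟨z, rfl⟩ := hsur x hx
      exact (purelyInseparable_fiber_iff f y z).1 (h2 z)

theorem isRadicialAt_of_isPullback {X Y X' Y' : Scheme.{u}} {f : X ⟶ Y} {h : Y' ⟶ Y} {f' : X' ⟶ Y'}
    {h' : X' ⟶ X} (sq : IsPullback h' f' f h) (y' : Y') :
    RadPt.IsRadicialAt f (h y') ↔ RadPt.IsRadicialAt f' y' := by
  rw [isRadicialAt_iff, isRadicialAt_iff]
  have hp := isPullback_fiberToSpecResidueField_of_isPullback sq y'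
  refine ⟨fun hi => MorphismProperty.of_isPullback hp hi, fun hi => ?_⟩
  letI : Algebra (Y.residueField (h y')) (Y'.residueField y') := (h.residueFieldMap y').hom.toAlgebra
  haveI : Flat (Spec.map (h.residueFieldMap y')) := by
    rw [HasRingHomProperty.Spec_iff (P := @Flat)]
    exact inferInstanceAs (Module.Flat (Y.residueField (h y')) (Y'.residueField y'))
  haveI : Surjective (Spec.map (h.residueFieldMap y')) := ⟨Function.surjective_to_subsingleton (α := Spec (Y'.residueField y')) (β := Spec (Y.residueField (h y'))) _⟩
  exact MorphismProperty.of_pullback_fst_of_descendsAlong (P := @UniversallyInjective)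
    (Q := @Surjective ⊓ @Flat ⊓ @QuasiCompact) (f := Spec.map (h.residueFieldMap y'))
    ⟨⟨inferInstance, inferInstance⟩, inferInstance⟩
    ((MorphismProperty.arrow_mk_iso_iff @UniversallyInjective
      (Arrow.isoMk hp.flip.isoPullback (Iso.refl _)
        (hp.flip.isoPullback_hom_fst.trans (Category.comp_id _).symm))).1 hi)

end Groth.Agent.RadPtLib
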